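import Cfsg.Agent.Lib.GenSp.Odd

/-!
`Sp_{2n}(F)` is generated by two elements (hence so is `PSp_{2n}(F)`), apart from `Sp_4(2)`.

`A = h * tr(e₀)` with `h` fixing `e₀` of order prime to the characteristic, so that `A` gives both
factors; `B` is the cyclic shift of the hyperbolic basis, times a transvection for `2 < q`.
-/

set_option autoImplicit false

namespace Cfsg.Agent.Lib.PSpTwoGen49

open Matrix Cfsg.Agent.Lib.Symplectic Cfsg.Agent.Lib.Forms.SpParabolic Cfsg.Agent.Lib.GenSL
open Cfsg.Agent.Lib.GenSp

variable {n : ℕ} {F : Type*} [Field F]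

/-- A basis vector of the first Lagrangian. -/
def e (n : ℕ) (F : Type*) [Field F] (i : ℕ) : Vsp n F := eVec (dl i)

/-- A basis vector of the second Lagrangian. -/
def f (n : ℕ) (F : Type*) [Field F] (i : ℕ) : Vsp n F := fVec (dl i)

theorem dl_dot_dl {i j : ℕ} (hi : i < n) :
    (dl i : Fin n → F) ⬝ᵥ dl j = if i = j then 1 else 0 := by
  rw [dl_dot i hi]; rfl

theorem bil_fe' {i j : ℕ} (hi : i < n) : stdForm n F (f n F i) (e n F j) = if i = j then 1 else 0 := by
  rw [f, e, bil_fe, dl_dot_dl hi]

theorem bil_ef' {i j : ℕ} (hi : i < n) :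
    stdForm n F (e n F i) (f n F j) = if i = j then -1 else 0 := by
  rw [f, e, bil_ef, dl_dot_dl hi]; split_ifs <;> simp

theorem bil_ee' (i j : ℕ) : stdForm n F (e n F i) (e n F j) = 0 := bil_ee _ _

theorem bil_ff' (i j : ℕ) : stdForm n F (f n F i) (f n F j) = 0 := bil_ff _ _

/-! ### The cyclic shift -/

/-- The cyclic shift of the indices. -/
def rot (n : ℕ) : Equiv.Perm (Fin n) := (finRotate n)⁻¹

theorem rot_dl {i : ℕ} (hi : i < n) :
    ((dl i : Fin n → F) ∘ rot n) = dl (if i + 1 = n then 0 else i + 1) := by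
  obtain ⟨m, rfl⟩ : ∃ m, n = m + 1 := ⟨n - 1, by omega⟩
  funext j
  obtain ⟨k, rfl⟩ := (finRotate (m + 1)).surjective j
  have hk : rot (m + 1) (finRotate (m + 1) k) = k := (finRotate (m + 1)).symm_apply_apply k
  have hv : (finRotate (m + 1) k : ℕ) = if k = Fin.last m then (0 : ℕ) else (k : ℕ) + 1 := coe_finRotate k
  have := k.isLt
  simp only [Function.comp_apply, hk, dl]
  by_cases hl : k = Fin.last m
  · subst hl
    rw [if_pos rfl] at hv
    simp only [Fin.val_last] at *
    split_ifs <;> first | rfl | omega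
  · rw [if_neg hl] at hv
    have : (k : ℕ) ≠ m := fun h => hl (Fin.ext h)
    split_ifs <;> first | rfl | omega

/-- The permutation as an element of `GL`. -/
def rotGL (n : ℕ) (F : Type*) [Field F] : GL (Fin n) F :=
  ⟨(rot n).permMatrix F, (rot n)⁻¹.permMatrix F,
    by rw [← Matrix.permMatrix_mul, inv_mul_cancel, Matrix.permMatrix_one],
    by rw [← Matrix.permMatrix_mul, mul_inv_cancel, Matrix.permMatrix_one]⟩

/-- The cyclic shift `e₀ → ⋯ → e_{n-1} → f₀ → ⋯ → f_{n-1} → -e₀`. -/
noncomputable def wSp (n : ℕ) (F : Type*) [Field F] : SpG n F :=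
  tr (e n F 0) (-1) * tr (f n F 0) (-1) * tr (e n F 0) (-1) * mkSp (rotGL n F) ⟨0, transpose_zero⟩

theorem act_swap_e {i : ℕ} (hi : i < n) (c : F) (hc : c = -1) :
    act (tr (e n F 0) c * tr (f n F 0) c * tr (e n F 0) c) (e n F i) =
      if i = 0 then f n F 0 else e n F i := by
  subst hc
  rcases eq_or_ne i 0 with rfl | h
  · simp [act_mul, act_tr, bil_ee', bil_ff', bil_ef' hi, bil_fe' hi]
  · simp [act_mul, act_tr, bil_ee', bil_ff', bil_ef' hi, h]

theorem act_swap_f {i : ℕ} (hi : i < n) (c : F) (hc : c = -1) :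
    act (tr (e n F 0) c * tr (f n F 0) c * tr (e n F 0) c) (f n F i) =
      if i = 0 then -e n F 0 else f n F i := by
  subst hc
  rcases eq_or_ne i 0 with rfl | h
  · simp [act_mul, act_tr, bil_ee', bil_ff', bil_ef' hi, bil_fe' hi]
  · simp [act_mul, act_tr, bil_ee', bil_ff', bil_fe' hi, h]

theorem act_rot_e {i : ℕ} (hi : i < n) :
    act (mkSp (rotGL n F) ⟨0, transpose_zero⟩) (e n F i) = e n F (if i + 1 = n then 0 else i + 1) := by
  rw [e, act_mkSp_e, rotGL, Matrix.permMatrix_mulVec, rot_dl hi]
  rfl

theorem act_rot_f {i : ℕ} (hi : i < n) :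
    act (mkSp (rotGL n F) ⟨0, transpose_zero⟩) (f n F i) = f n F (if i + 1 = n then 0 else i + 1) := by
  rw [f, act_mkSp_zero_f]
  show fVec (((rot n)⁻¹.permMatrix F)ᵀ *ᵥ dl i) = _
  rw [Matrix.transpose_permMatrix, inv_inv, Matrix.permMatrix_mulVec, rot_dl hi]
  rfl

theorem wSp_e {i : ℕ} (hi : i + 1 < n) : act (wSp n F) (e n F i) = e n F (i + 1) := by
  rw [wSp, act_mul, act_rot_e (by omega), if_neg (by omega), act_swap_e hi _ rfl, if_neg (by omega)]

theorem wSp_e_last {i : ℕ} (hi : i + 1 = n) : act (wSp n F) (e n F i) = f n F 0 := by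
  rw [wSp, act_mul, act_rot_e (by omega), if_pos hi, act_swap_e (by omega) _ rfl, if_pos rfl]

theorem wSp_f {i : ℕ} (hi : i + 1 < n) : act (wSp n F) (f n F i) = f n F (i + 1) := by
  rw [wSp, act_mul, act_rot_f (by omega), if_neg (by omega), act_swap_f hi _ rfl, if_neg (by omega)]

/-! ### Splitting the first generator -/

theorem tr_npow (v : Vsp n F) (c : F) : ∀ k : ℕ, tr v c ^ k = tr v (k * c)
  | 0 => by rw [pow_zero, Nat.cast_zero, zero_mul, tr_zero]
  | k + 1 => by rw [pow_succ, tr_npow v c k, tr_mul]; congr 1; push_cast; ring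

theorem commute_tr {h : SpG n F} {v : Vsp n F} (hv : act h v = v) (c : F) :
    Commute h (tr v c) := by
  have := tr_conj h v c
  rw [hv] at this
  exact mul_inv_eq_iff_eq_mul.1 this

theorem split_mem {K : Subgroup (SpG n F)} {h : SpG n F} {v : Vsp n F} (hv : act h v = v) (k : ℕ)
    (hk : h ^ k = 1) (hk' : (k : F) = 1 ∨ (k : F) = -1) (hA : h * tr v 1 ∈ K) :
    h ∈ K ∧ tr v 1 ∈ K := by
  have e1 : (h * tr v 1) ^ k = tr v (k : F) := by
    rw [(commute_tr hv 1).mul_pow, hk, one_mul, tr_npow, mul_one]
  have hx : tr v 1 ∈ K := by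
    rcases hk' with hk' | hk'
    · rw [hk'] at e1; rw [← e1]; exact pow_mem hA k
    · rw [hk', ← tr_inv] at e1
      rw [← inv_inv (tr v (1 : F)), ← e1]
      exact inv_mem (pow_mem hA k)
  refine ⟨?_, hx⟩
  have := mul_mem hA (inv_mem hx)
  rwa [mul_inv_cancel_right] at this

/-! ### Two generators, `2 < q` -/

theorem two_gen_big [Fintype F] (hn : 2 ≤ n) (hq : 2 < Fintype.card F) :
    ∃ A B : SpG n F, Subgroup.closure ({A, B} : Set (SpG n F)) = ⊤ := by
  classical
  obtain ⟨μ, hμ, hgen⟩ := exists_pow_gen (F := F) (k := 2) (by omega) le_rfl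
  let d : GL (Fin n) F := Units.map (Matrix.diagonalRingHom (Fin n) F).toMonoidHom
    (MulEquiv.piUnits.symm fun i : Fin n => if i.val = 1 then Units.mk0 μ hμ else 1)
  have hd : (d : Matrix (Fin n) (Fin n) F) = Matrix.diagonal fun i : Fin n => if i.val = 1 then μ else 1 := by
    show Matrix.diagonal _ = Matrix.diagonal _
    congr 1; funext i
    show ((if i.val = 1 then Units.mk0 μ hμ else 1 : Fˣ) : F) = _
    split_ifs <;> simp
  set h := mkSp d ⟨0, transpose_zero⟩ with hh
  have hhe : ∀ i, act h (e n F i) = (if i = 1 then μ else 1) • e n F i := fun i => by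
    rw [hh, e, act_mkSp_e, hd, ← eVec_smul]
    congr 1; funext j
    rw [mulVec_diagonal]
    simp only [Pi.smul_apply, smul_eq_mul, dl]
    by_cases hj : j.val = i <;> simp [hj]
  have hh0 : act h (e n F 0) = e n F 0 := by rw [hhe]; simp
  set v : Vsp n F := e n F 0 + e n F (n - 1) with hv
  set B := wSp n F * tr v 1 with hB
  refine ⟨h * tr (e n F 0) 1, B, ?_⟩
  set K := Subgroup.closure ({h * tr (e n F 0) 1, B} : Set (SpG n F)) with hK
  have hA : h * tr (e n F 0) 1 ∈ K := Subgroup.subset_closure (by simp)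
  have hBK : B ∈ K := Subgroup.subset_closure (by simp)
  have hpow : h ^ (Fintype.card F - 1) = 1 := by
    have hd1 : d ^ (Fintype.card F - 1) = 1 := by
      apply Units.ext
      rw [Units.val_pow_eq_pow_val, hd, Matrix.diagonal_pow, Units.val_one, ← Matrix.diagonal_one]
      congr 1; funext i
      show (if i.val = 1 then μ else 1) ^ _ = _
      split_ifs
      · exact FiniteField.pow_card_sub_one_eq_one μ hμ
      · exact one_pow _
    have hp : ∀ k : ℕ, h ^ k = mkSp (d ^ k) ⟨0, transpose_zero⟩ := by
      intro k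
      induction k with
      | zero =>
        rw [pow_zero, pow_zero]
        refine ext_act fun x => ?_
        rw [act_one, decomp x, act_add, act_mkSp_e, act_mkSp_zero_f]
        simp
      | succ k ih =>
        rw [pow_succ, pow_succ, ih, hh]
        exact mkSp_mul _ _ _ _ _ (by simp)
    rw [hp, hd1]
    refine ext_act fun x => ?_
    rw [act_one, decomp x, act_add, act_mkSp_e, act_mkSp_zero_f]
    simp
  have hq1 : ((Fintype.card F - 1 : ℕ) : F) = -1 := by
    rw [Nat.cast_sub (by omega), FiniteField.cast_card_eq_zero, Nat.cast_one, zero_sub]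
  obtain ⟨hhK, hxK⟩ := split_mem hh0 _ hpow (Or.inr hq1) hA
  have hB0 : act B (e n F 0) = e n F 1 := by
    rw [hB, act_mul, act_tr, hv, map_add, bil_ee', bil_ee', add_zero, mul_zero, zero_smul, add_zero,
      wSp_e hn]
  -- all of the root subgroup at `e₁`, then at `e₀`
  have hfull1 : Full K (e n F 1) := by
    refine tr_all (μ := μ ^ 2) hgen (fun t ht => ?_) (t0 := 1) ?_ one_ne_zero
    · have e1 : act h (e n F 1) = μ • e n F 1 := by rw [hhe, if_pos rfl]
      rw [show μ ^ 2 * t = μ * μ * t by ring, ← tr_smul, ← e1, ← tr_conj]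
      exact mul_mem (mul_mem hhK ht) (inv_mem hhK)
    · rw [← hB0, ← tr_conj]
      exact mul_mem (mul_mem hBK hxK) (inv_mem hBK)
  have hfull : Full K (e n F 0) := by
    have := hfull1.act (inv_mem hBK)
    rwa [← hB0, act_inv_act] at this
  -- the orbit of `e₀`
  have he : ∀ i, i < n → ∃ g ∈ Subgroup.closure ({h, B} : Set (SpG n F)), act g (e n F 0) = e n F i := by
    intro i hi
    induction i with
    | zero => exact ⟨1, one_mem _, act_one _⟩
    | succ i ih =>
      obtain ⟨g, hg, hgi⟩ := ih (by omega)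
      refine ⟨B * g, mul_mem (Subgroup.subset_closure (by simp)) hg, ?_⟩
      rw [act_mul, hgi, hB, act_mul, act_tr, hv, map_add, bil_ee', bil_ee', add_zero, mul_zero,
        zero_smul, add_zero, wSp_e hi]
  have hlast : act B (e n F (n - 1)) = f n F 0 := by
    rw [hB, act_mul, act_tr, hv, map_add, bil_ee', bil_ee', add_zero, mul_zero, zero_smul, add_zero,
      wSp_e_last (by omega)]
  have hwv : act (wSp n F) v = e n F 1 + f n F 0 := by
    rw [hv, act_add, wSp_e hn, wSp_e_last (by omega)]
  have hf : ∀ i, i + 1 < n → act B (f n F i) = f n F (i + 1) + stdForm n F (f n F i) v • (e n F 1 + f n F 0) := by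
    intro i hi
    rw [hB, act_mul, act_tr, one_mul, act_add, act_smul, hwv, wSp_f hi]
  set z := act B (f n F 0) with hz
  have hzval : z = f n F 1 + (e n F 1 + f n F 0) := by
    rw [hz, hf 0 hn, hv, map_add, bil_fe' (by omega), bil_fe' (by omega), if_pos rfl,
      if_neg (by omega), add_zero, one_smul]
  have hzfull : Full K z := by
    obtain ⟨g, hg, hgi⟩ := he (n - 1) (by omega)
    have hgK : g ∈ K :=
      (Subgroup.closure_le K).2 (Set.insert_subset hhK (Set.singleton_subset_iff.2 hBK)) hg
    rw [hz, ← hlast, ← hgi]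
    exact ((hfull.act hgK).act hBK).act hBK
  have haz : stdForm n F (e n F 0) z = -1 := by
    simp [hzval, bil_ee', bil_ef' (show (0 : ℕ) < n by omega)]
  have haz1 : stdForm n F (e n F 1) z = -1 := by
    simp [hzval, bil_ee', bil_ef' (show (1 : ℕ) < n by omega)]
  have hne : (-1 : F) ≠ 0 := neg_ne_zero.2 one_ne_zero
  obtain ⟨t, ht⟩ : ∃ t : F, t ≠ 0 ∧ t ≠ 1 := by
    by_contra hcon
    have hsub : (Finset.univ : Finset F) ⊆ {0, 1} := fun t _ => by
      by_contra ht
      simp only [Finset.mem_insert, Finset.mem_singleton, not_or] at ht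
      exact hcon ⟨t, ht⟩
    have := Finset.card_le_card hsub
    rw [Finset.card_univ, Finset.card_pair zero_ne_one] at this
    omega
  refine eq_top_of_spread ⟨t, ht⟩ hfull hhK hBK ?_ ?_ ?_
  · exact ⟨z, hzfull, by rw [haz]; exact hne, by rw [hh0, haz]; exact hne⟩
  · exact ⟨z, hzfull, by rw [haz]; exact hne, by rw [hB0, haz1]; exact hne⟩
  · intro x hx
    by_contra hcon
    push Not at hcon
    -- the span of the orbit
    let U : Submodule F (Vsp n F) :=
      Submodule.span F {y | ∃ g ∈ Subgroup.closure ({h, B} : Set (SpG n F)), act g (e n F 0) = y}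
    have hUB : ∀ y ∈ U, act B y ∈ U := by
      intro y hy
      induction hy using Submodule.span_induction with
      | mem y hy =>
        obtain ⟨g, hg, rfl⟩ := hy
        exact Submodule.subset_span
          ⟨B * g, mul_mem (Subgroup.subset_closure (by simp)) hg, act_mul _ _ _⟩
      | zero => rw [act_zero]; exact zero_mem _
      | add a b _ _ ha hb => rw [act_add]; exact add_mem ha hb
      | smul c a _ ha => rw [act_smul]; exact Submodule.smul_mem _ c ha
    have hUe : ∀ i, i < n → e n F i ∈ U := fun i hi => Submodule.subset_span (he i hi)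
    have hU0 : f n F 0 ∈ U := hlast ▸ hUB _ (hUe _ (by omega))
    have hUf : ∀ i, i < n → f n F i ∈ U := by
      intro i hi
      induction i with
      | zero => exact hU0
      | succ i ih =>
        have h1 := hUB _ (ih (by omega))
        rw [hf i hi] at h1
        have h2 := sub_mem h1 (Submodule.smul_mem _ (stdForm n F (f n F i) v)
          (add_mem (hUe 1 (by omega)) hU0))
        rwa [add_sub_cancel_right] at h2
    have hxU : ∀ y ∈ U, stdForm n F x y = 0 := by
      intro y hy
      induction hy using Submodule.span_induction with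
      | mem y hy => obtain ⟨g, hg, rfl⟩ := hy; exact hcon g hg
      | zero => exact map_zero _
      | add a b _ _ ha hb => rw [map_add, ha, hb, add_zero]
      | smul c a _ ha => rw [map_smul, ha, smul_zero]
    refine hx (funext fun i => ?_)
    rcases i with i | i
    · have := hxU _ (hUf i.val i.isLt)
      rw [f, decomp x, map_add, LinearMap.add_apply, bil_ef, bil_ff, add_zero, neg_eq_zero,
        dotProduct_comm, dl_dot i.val i.isLt] at this
      exact this
    · have := hxU _ (hUe i.val i.isLt)
      rw [e, decomp x, map_add, LinearMap.add_apply, bil_ee, bil_fe, zero_add,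
        dotProduct_comm, dl_dot i.val i.isLt] at this
      exact this

/-! ### Two generators, `q = 2` -/

/-- A linear map of order three moving `e₁` and `e₂`. -/
def mix (n : ℕ) (F : Type*) [Field F] (hn : 3 ≤ n) : (Fin n → F) →ₗ[F] (Fin n → F) where
  toFun z i := if i.val = 1 then z ⟨1, by omega⟩ + z ⟨2, by omega⟩ else
    if i.val = 2 then z ⟨1, by omega⟩ else z i
  map_add' z w := by funext i; simp only [Pi.add_apply]; split_ifs <;> ring
  map_smul' a z := by funext i; simp only [Pi.smul_apply, smul_eq_mul, RingHom.id_apply]; split_ifs <;> ring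

theorem two_gen_two [Fintype F] (hn : 3 ≤ n) (hF : ∀ t : F, t = 0 ∨ t = 1) :
    ∃ A B : SpG n F, Subgroup.closure ({A, B} : Set (SpG n F)) = ⊤ := by
  classical
  have h2 : (2 : F) = 0 := by
    rcases hF 2 with h | h
    · exact h
    · exfalso; exact one_ne_zero (show (1 : F) = 0 by linear_combination h)
  have hcube : ∀ z, mix n F hn (mix n F hn (mix n F hn z)) = z := by
    intro z
    funext i
    rcases eq_or_ne i.val 1 with h1 | h1
    · rw [show i = ⟨1, by omega⟩ from Fin.ext h1]
      simp [mix]
      linear_combination (z ⟨1, by omega⟩ + z ⟨2, by omega⟩) * h2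
    rcases eq_or_ne i.val 2 with h2' | h2'
    · rw [show i = ⟨2, by omega⟩ from Fin.ext h2']
      simp [mix]
      linear_combination (z ⟨1, by omega⟩) * h2
    · simp [mix, h1, h2']
  set M := LinearMap.toMatrix' (mix n F hn) with hM
  have hMz : ∀ z, M *ᵥ z = mix n F hn z := fun z => LinearMap.toMatrix'_mulVec _ z
  have hM3 : M * (M * M) = 1 := by
    refine Matrix.ext_iff_mulVec.2 fun z => ?_
    rw [← mulVec_mulVec, ← mulVec_mulVec, hMz, hMz, hMz, hcube, one_mulVec]
  let g : GL (Fin n) F := ⟨M, M * M, hM3, by rw [Matrix.mul_assoc]; exact hM3⟩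
  set h := mkSp g ⟨0, transpose_zero⟩ with hh
  have hhe : ∀ z, act h (eVec z) = eVec (mix n F hn z) := fun z => by
    rw [hh, act_mkSp_e, show (g : Matrix (Fin n) (Fin n) F) = M from rfl, hMz]
  have hh0 : act h (e n F 0) = e n F 0 := by
    rw [e, hhe]; congr 1; funext i
    simp [mix, dl]
    split_ifs <;> first | rfl | omega
  have hh1 : act h (e n F 1) = e n F 1 + e n F 2 := by
    rw [e, e, ← eVec_add, hhe]; congr 1; funext i
    simp [mix, dl]
    split_ifs <;> first | rfl | omega | simp
  have hpow : h ^ 3 = 1 := by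
    refine ext_act fun x => ?_
    have e3 : g * (g * g) = 1 := Units.ext hM3
    rw [show h ^ 3 = h * (h * h) by rw [pow_succ', pow_two], hh, mkSp_mul g g _ _ ⟨0, transpose_zero⟩ (by simp),
      mkSp_mul g (g * g) _ _ ⟨0, transpose_zero⟩ (by simp), e3, act_one, decomp x, act_add, act_mkSp_e,
      act_mkSp_zero_f]
    simp
  refine ⟨h * tr (e n F 0) 1, wSp n F, ?_⟩
  set K := Subgroup.closure ({h * tr (e n F 0) 1, wSp n F} : Set (SpG n F)) with hK
  have hA : h * tr (e n F 0) 1 ∈ K := Subgroup.subset_closure (by simp)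
  have hwK : wSp n F ∈ K := Subgroup.subset_closure (by simp)
  obtain ⟨hhK, hxK⟩ := split_mem hh0 3 hpow (Or.inl (show ((3 : ℕ) : F) = 1 by
    push_cast; linear_combination h2)) hA
  have hfull : Full K (e n F 0) := fun t => by
    rcases hF t with rfl | rfl
    · rw [tr_zero]; exact one_mem K
    · exact hxK
  have he : ∀ i, i < n → Full K (e n F i) := by
    intro i hi
    induction i with
    | zero => exact hfull
    | succ i ih => rw [← wSp_e hi]; exact (ih (by omega)).act hwK
  have hf : ∀ i, i < n → Full K (f n F i) := by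
    intro i hi
    induction i with
    | zero => rw [← wSp_e_last (show n - 1 + 1 = n by omega)]; exact (he _ (by omega)).act hwK
    | succ i ih => rw [← wSp_f hi]; exact (ih (by omega)).act hwK
  have hee : ∀ i, i + 1 < n → Full K (e n F i + e n F (i + 1)) := by
    have h12 : Full K (e n F 1 + e n F 2) := by rw [← hh1]; exact (he 1 (by omega)).act hhK
    intro i
    induction i with
    | zero =>
      intro _
      have := h12.act (inv_mem hwK)
      rw [← wSp_e (show (0 : ℕ) + 1 < n by omega), ← wSp_e (show (1 : ℕ) + 1 < n by omega),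
        ← act_add, act_inv_act] at this
      exact this
    | succ i ih =>
      intro hi
      have := (ih (by omega)).act hwK
      rwa [act_add, wSp_e (by omega), wSp_e (by omega)] at this
  let W : ℕ → Submodule F (Vsp n F) := fun k => Submodule.span F (e n F '' Set.Iio k ∪ f n F '' Set.Iio k)
  have hgood : ∀ k, k ≤ n → GoodSub K (W k) := by
    intro k
    induction k with
    | zero =>
      intro _
      have e0 : W 0 = ⊥ := by simp [W]
      rw [e0]; exact goodSub_bot
    | succ k ih =>
      intro hk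
      have hWk := ih (by omega)
      have hW : W (k + 1) = W k ⊔ Submodule.span F {e n F k, f n F k} := by
        simp only [W]
        rw [← Submodule.span_union]
        congr 1
        ext y
        simp only [Set.mem_image, Set.mem_union, Set.mem_Iio, Set.mem_insert_iff, Set.mem_singleton_iff,
          Nat.lt_succ_iff_lt_or_eq]
        constructor
        · rintro (⟨i, hi | rfl, rfl⟩ | ⟨i, hi | rfl, rfl⟩)
          · exact Or.inl (Or.inl ⟨i, hi, rfl⟩)
          · exact Or.inr (Or.inl rfl)
          · exact Or.inl (Or.inr ⟨i, hi, rfl⟩)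
          · exact Or.inr (Or.inr rfl)
        · rintro ((⟨i, hi, rfl⟩ | ⟨i, hi, rfl⟩) | rfl | rfl)
          · exact Or.inl ⟨i, Or.inl hi, rfl⟩
          · exact Or.inr ⟨i, Or.inl hi, rfl⟩
          · exact Or.inl ⟨k, Or.inr rfl, rfl⟩
          · exact Or.inr ⟨k, Or.inr rfl, rfl⟩
      have hpq : stdForm n F (e n F k) (f n F k) ≠ 0 := by
        rw [bil_ef' (by omega), if_pos rfl]; exact neg_ne_zero.2 one_ne_zero
      rw [hW]
      rcases eq_or_ne k 0 with rfl | hk0
      · rw [show W 0 = ⊥ by simp [W], bot_sup_eq]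
        exact goodSub_plane (he 0 (by omega)) (hf 0 (by omega)) hpq
      have horth : ∀ y ∈ W k, stdForm n F (e n F k) y = 0 ∧ stdForm n F (f n F k) y = 0 := by
        intro y hy
        refine ⟨(Submodule.span_le (p := LinearMap.ker (stdForm n F (e n F k)))).2 ?_ hy,
          (Submodule.span_le (p := LinearMap.ker (stdForm n F (f n F k)))).2 ?_ hy⟩
        · rintro _ (⟨i, hi, rfl⟩ | ⟨i, hi, rfl⟩)
          · exact bil_ee' k i
          · show stdForm n F (e n F k) (f n F i) = 0
            rw [bil_ef' (by omega), if_neg (ne_of_gt hi)]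
        · rintro _ (⟨i, hi, rfl⟩ | ⟨i, hi, rfl⟩)
          · show stdForm n F (f n F k) (e n F i) = 0
            rw [bil_fe' (by omega), if_neg (ne_of_gt hi)]
          · exact bil_ff' k i
      refine hWk.glue (fun y hy => (horth y hy).1) (fun y hy => (horth y hy).2) hpq (he k (by omega))
        (zero_mem _) (by rw [add_zero]; exact hf k (by omega)) (ws := e n F (k - 1))
        (Submodule.subset_span (Or.inl ⟨k - 1, by simp only [Set.mem_Iio]; omega, rfl⟩)) ?_ ?_
      · intro h0
        have := bil_ef' (F := F) (show k - 1 < n by omega) (j := k - 1)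
        rw [h0, map_zero, LinearMap.zero_apply, if_pos rfl] at this
        exact neg_ne_zero.2 one_ne_zero this.symm
      · have := hee (k - 1) (by omega)
        rwa [show k - 1 + 1 = k by omega] at this
  have htop : W n = ⊤ := exists_dual _ fun x hx => by
    obtain ⟨i, hi⟩ := Function.ne_iff.1 hx
    rcases i with i | i
    · refine ⟨f n F i.val, Submodule.subset_span (Or.inr ⟨i.val, i.isLt, rfl⟩), ?_⟩
      rw [f, decomp x, map_add, LinearMap.add_apply, bil_ef, bil_ff, add_zero, neg_ne_zero,
        dotProduct_comm, dl_dot i.val i.isLt]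
      exact hi
    · refine ⟨e n F i.val, Submodule.subset_span (Or.inl ⟨i.val, i.isLt, rfl⟩), ?_⟩
      rw [e, decomp x, map_add, LinearMap.add_apply, bil_ee, bil_fe, zero_add,
        dotProduct_comm, dl_dot i.val i.isLt]
      exact hi
  exact eq_top_of_full fun x => (hgood n le_rfl).full x (htop ▸ Submodule.mem_top)

/-- `Sp_{2n}(F)` is two-generated. -/
theorem sp_two_generated [Fintype F] (hn : 2 ≤ n) (h : n = 2 → 2 < Fintype.card F) :
    ∃ A B : SpG n F, Subgroup.closure ({A, B} : Set (SpG n F)) = ⊤ := by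
  classical
  by_cases hq : 2 < Fintype.card F
  · exact two_gen_big hn hq
  · have hn3 : 3 ≤ n := by
      by_contra hlt
      exact hq (h (by omega))
    refine two_gen_two hn3 fun t => ?_
    by_contra ht
    push Not at ht
    apply hq
    have h3 : ({0, 1, t} : Finset F).card = 3 := by
      rw [Finset.card_insert_of_notMem (by simp [Ne.symm ht.1]),
        Finset.card_insert_of_notMem (by simp [Ne.symm ht.2]), Finset.card_singleton]
    have := Finset.card_le_univ ({0, 1, t} : Finset F)
    omega

/-- A quotient of a two-generated group is two-generated. -/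
theorem quotient_two_generated {G : Type*} [Group G] (N : Subgroup G) [N.Normal]
    (h : ∃ A B : G, Subgroup.closure ({A, B} : Set G) = ⊤) :
    ∃ a b : G ⧸ N, Subgroup.closure ({a, b} : Set (G ⧸ N)) = ⊤ := by
  obtain ⟨A, B, hAB⟩ := h
  refine ⟨QuotientGroup.mk' N A, QuotientGroup.mk' N B, ?_⟩
  have h1 := congrArg (Subgroup.map (QuotientGroup.mk' N)) hAB
  rw [MonoidHom.map_closure, Set.image_pair,
    Subgroup.map_top_of_surjective _ (QuotientGroup.mk'_surjective N)] at h1
  exact h1

end Cfsg.Agent.Lib.PSpTwoGen49
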